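import Groth.Agent.Lib.GenFree.Generic
import Mathlib.Algebra.Module.FinitePresentation
import Mathlib.RingTheory.FinitePresentation
import Mathlib.RingTheory.RingHom.FinitePresentation
import Mathlib.RingTheory.TensorProduct.Maps
import Mathlib.RingTheory.Localization.BaseChange
import Mathlib.RingTheory.Localization.Away.Basic

/-! # Consequences of generic freeness: finite presentation on a dense open -/

universe u

open TensorProduct

namespace GrothLib.GenFree

variable {R : Type u} [CommRing R]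

theorem FreeOn.free_tensor {f : R} {M : Type u} [AddCommGroup M] [Module R M] (h : FreeOn f M)
    (Rf : Type u) [CommRing Rf] [Algebra R Rf] [IsLocalization.Away f Rf] :
    Module.Free Rf (Rf ⊗[R] M) := by
  obtain ⟨ι, φ, h1, h2⟩ := h
  let jF : (ι →₀ R) →ₗ[R] Rf ⊗[R] (ι →₀ R) := TensorProduct.mk R Rf _ 1
  let jM : M →ₗ[R] Rf ⊗[R] M := TensorProduct.mk R Rf _ 1
  haveI : IsLocalizedModule (Submonoid.powers f) jF :=
    (isLocalizedModule_iff_isBaseChange (Submonoid.powers f) Rf jF).mpr
      (TensorProduct.isBaseChange R _ Rf)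
  haveI : IsLocalizedModule (Submonoid.powers f) jM :=
    (isLocalizedModule_iff_isBaseChange (Submonoid.powers f) Rf jM).mpr
      (TensorProduct.isBaseChange R _ Rf)
  let Φ := φ.baseChange Rf
  have hΦ : ∀ l, Φ (jF l) = jM (φ l) := fun l ↦ by simp [Φ, jF, jM]
  have hb : Function.Bijective Φ := by
    constructor
    · rw [injective_iff_map_eq_zero]
      intro x hx
      obtain ⟨⟨l, s⟩, hs⟩ := IsLocalizedModule.surj (Submonoid.powers f) jF x
      have h0 : jM (φ l) = 0 := by
        rw [← hΦ, ← hs, Submonoid.smul_def, LinearMap.map_smul_of_tower, hx, smul_zero]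
      obtain ⟨⟨_, a, rfl⟩, hc⟩ := (IsLocalizedModule.eq_zero_iff (Submonoid.powers f) jM).mp h0
      obtain ⟨e, he⟩ := h2 (f ^ a • l) (by rw [map_smul]; exact hc)
      refine IsLocalizedModule.smul_injective jF s ?_
      show s • x = s • 0
      rw [smul_zero, hs]
      exact (IsLocalizedModule.eq_zero_iff (Submonoid.powers f) jF).mpr
        ⟨⟨f ^ (e + a), e + a, rfl⟩, by
          show f ^ (e + a) • l = 0
          rw [pow_add, mul_smul, he]⟩
    · intro y
      obtain ⟨⟨m, s⟩, hs⟩ := IsLocalizedModule.surj (Submonoid.powers f) jM y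
      obtain ⟨e, l, hl⟩ := h1 m
      let t : Submonoid.powers f := ⟨f ^ e, e, rfl⟩ * s
      refine ⟨IsLocalizedModule.mk' jF l t, IsLocalizedModule.smul_injective jM t ?_⟩
      show t • _ = t • y
      rw [Submonoid.smul_def, Submonoid.smul_def, ← LinearMap.map_smul_of_tower,
        ← Submonoid.smul_def, IsLocalizedModule.mk'_cancel', hΦ, hl]
      rw [map_smul, ← hs, Submonoid.smul_def, smul_smul]
      rfl
  exact Module.Free.of_equiv (LinearEquiv.ofBijective Φ hb)

/-- Relations can be chosen finitely on a dense open. -/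
theorem exists_fg_on [IsReduced R] {A : Type u} [CommRing A] [Algebra R A]
    [Algebra.FiniteType R A] {V : Type u} [AddCommGroup V] [Module A V] [Module R V]
    [IsScalarTower R A V] [Module.Finite A V] (N : Submodule A V) (g : R) (hg : g ≠ 0) :
    ∃ f, g ∣ f ∧ f ≠ 0 ∧ FreeOn f (V ⧸ N) ∧
      ∃ N' ≤ N, N'.FG ∧ ∀ v ∈ N, ∃ e : ℕ, f ^ e • v ∈ N' := by
  obtain ⟨f, hgf, hf, N', ⟨hle, hfg⟩, hfr, hst⟩ := exists_stable {N' | N' ≤ N ∧ N'.FG}
    ⟨⊥, bot_le, Submodule.fg_bot⟩
    (fun a ha b hb ↦ ⟨a ⊔ b, ⟨sup_le ha.1 hb.1, ha.2.sup hb.2⟩, le_sup_left, le_sup_right⟩)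
    (fun P _ g hg ↦ gf_of_finiteType A (V ⧸ P) g hg) g hg
  have key : ∀ v ∈ N, ∃ e : ℕ, f ^ e • v ∈ N' := fun v hv ↦
    hst (Submodule.span A {v}) ⟨by simpa, Submodule.fg_span_singleton v⟩ v
      (Submodule.mem_span_singleton_self v)
  refine ⟨f, hgf, hf, hfr.of_map ((N'.mapQ N LinearMap.id hle).restrictScalars R) ?_ ?_,
    N', hle, hfg, key⟩
  · intro m
    obtain ⟨v, rfl⟩ := Submodule.Quotient.mk_surjective _ m
    exact ⟨0, Submodule.Quotient.mk v, by simp⟩
  · intro m hm
    obtain ⟨v, rfl⟩ := Submodule.Quotient.mk_surjective _ m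
    obtain ⟨e, he⟩ := key v (by
      simpa [Submodule.mapQ_apply, Submodule.Quotient.mk_eq_zero] using hm)
    exact ⟨e, by rw [← Submodule.Quotient.mk_smul, Submodule.Quotient.mk_eq_zero]; exact he⟩

/-- The module becomes finitely presented once an element killing the relations is inverted. -/
theorem finitePresentation_localized {A : Type u} [CommRing A] [Algebra R A] {V M : Type u}
    [AddCommGroup V] [Module A V] [Module.FinitePresentation A V]
    [AddCommGroup M] [Module A M] [Module R V] [IsScalarTower R A V]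
    (π : V →ₗ[A] M) (hπ : Function.Surjective π) (f : R) {N' : Submodule A V} (hle : N' ≤ LinearMap.ker π)
    (hfg : N'.FG) (hN' : ∀ v ∈ LinearMap.ker π, ∃ e : ℕ, f ^ e • v ∈ N') :
    Module.FinitePresentation (Localization.Away (algebraMap R A f))
      (LocalizedModule (Submonoid.powers (algebraMap R A f)) M) := by
  let S := Submonoid.powers (algebraMap R A f)
  let ℓ := LocalizedModule.mkLinearMap S M
  let q : (V ⧸ N') →ₗ[A] LocalizedModule S M := ℓ ∘ₗ N'.liftQ π hle
  haveI : Module.FinitePresentation A (V ⧸ N') :=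
    Module.finitePresentation_of_surjective _ N'.mkQ_surjective (by rwa [Submodule.ker_mkQ])
  haveI : IsLocalizedModule S q :=
    { map_units := IsLocalizedModule.map_units ℓ
      surj := fun y ↦ by
        obtain ⟨⟨m, s⟩, hs⟩ := IsLocalizedModule.surj S ℓ y
        obtain ⟨v, rfl⟩ := hπ m
        exact ⟨⟨Submodule.Quotient.mk v, s⟩, by simpa [q] using hs⟩
      exists_of_eq := fun {x₁ x₂} h ↦ by
        obtain ⟨a, rfl⟩ := Submodule.Quotient.mk_surjective _ x₁
        obtain ⟨b, rfl⟩ := Submodule.Quotient.mk_surjective _ x₂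
        obtain ⟨⟨_, e, rfl⟩, hc⟩ := IsLocalizedModule.exists_of_eq (S := S) (f := ℓ)
          (x₁ := π a) (x₂ := π b) (by simpa [q] using h)
        replace hc : (algebraMap R A f) ^ e • π a = (algebraMap R A f) ^ e • π b := hc
        obtain ⟨d, hd⟩ := hN' ((algebraMap R A f) ^ e • (a - b)) (by
          rw [LinearMap.mem_ker, map_smul, map_sub, smul_sub, hc, sub_self])
        refine ⟨⟨(algebraMap R A f) ^ (d + e), d + e, rfl⟩, ?_⟩
        show (algebraMap R A f) ^ (d + e) • Submodule.Quotient.mk a =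
          (algebraMap R A f) ^ (d + e) • Submodule.Quotient.mk (p := N') b
        rw [← Submodule.Quotient.mk_smul,
          ← Submodule.Quotient.mk_smul, Submodule.Quotient.eq, ← smul_sub, pow_add, mul_smul]
        rw [← map_pow, algebraMap_smul] at hd
        rw [← map_pow, algebraMap_smul, ← map_pow, algebraMap_smul]
        exact hd }
  exact FinitePresentation.of_isBaseChange q
    (IsLocalizedModule.isBaseChange S (Localization.Away (algebraMap R A f)) q)

/-- **Generic freeness** in full, over a reduced ring. -/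
theorem exists_free_and_finitePresentation [IsReduced R] (S M : Type u) [CommRing S] [Algebra R S]
    [Algebra.FiniteType R S] [AddCommGroup M] [Module S M] [Module R M] [IsScalarTower R S M]
    [Module.Finite S M] (g : R) (hg : g ≠ 0) :
    ∃ f : R, g ∣ f ∧ f ≠ 0 ∧
      Module.Free (Localization.Away f) (Localization.Away f ⊗[R] M) ∧
      Module.Free (Localization.Away f) (Localization.Away f ⊗[R] S) ∧
      Algebra.FinitePresentation (Localization.Away f) (Localization.Away f ⊗[R] S) ∧
      Module.FinitePresentation (Localization.Away (algebraMap R S f))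
        (LocalizedModule (Submonoid.powers (algebraMap R S f)) M) := by
  obtain ⟨n, π, hπ⟩ := Module.Finite.exists_fin' S M
  obtain ⟨f₁, hd₁, hf₁, hfr₁, N', hle, hfg, hN'⟩ := exists_fg_on (R := R) (LinearMap.ker π) g hg
  obtain ⟨m, σ, hσ⟩ := Algebra.FiniteType.iff_quotient_mvPolynomial''.mp ‹Algebra.FiniteType R S›
  obtain ⟨f, hd, hf, hfr, I', hIle, hIfg, hI'⟩ :=
    exists_fg_on (R := R) (A := MvPolynomial (Fin m) R) (RingHom.ker σ) f₁ hf₁
  refine ⟨f, hd₁.trans hd, hf, ?_, ?_, ?_, ?_⟩
  · exact ((hfr₁.of_equiv ((π.quotKerEquivOfSurjective hπ).restrictScalars R)).mono hd).free_tensor _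
  · exact (hfr.of_equiv (Ideal.quotientKerAlgEquivOfSurjective hσ).toLinearEquiv).free_tensor _
  · haveI : Algebra.FinitePresentation R (MvPolynomial (Fin m) R ⧸ I') :=
      Algebra.FinitePresentation.quotient hIfg
    let τ : (MvPolynomial (Fin m) R ⧸ I') →ₐ[R] S := Ideal.Quotient.liftₐ I' σ fun a ha ↦ hIle ha
    let Rf := Localization.Away f
    let T := Algebra.TensorProduct.map (AlgHom.id Rf Rf) τ
    refine Algebra.FinitePresentation.equiv (AlgEquiv.ofBijective T ⟨?_, ?_⟩)
    · rw [injective_iff_map_eq_zero]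
      intro x hx
      let jF : (MvPolynomial (Fin m) R ⧸ I') →ₗ[R] Rf ⊗[R] (MvPolynomial (Fin m) R ⧸ I') :=
        TensorProduct.mk R Rf _ 1
      let jS : S →ₗ[R] Rf ⊗[R] S := TensorProduct.mk R Rf _ 1
      haveI : IsLocalizedModule (Submonoid.powers f) jF :=
        (isLocalizedModule_iff_isBaseChange (Submonoid.powers f) Rf jF).mpr
          (TensorProduct.isBaseChange R _ Rf)
      haveI : IsLocalizedModule (Submonoid.powers f) jS :=
        (isLocalizedModule_iff_isBaseChange (Submonoid.powers f) Rf jS).mpr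
          (TensorProduct.isBaseChange R _ Rf)
      obtain ⟨⟨l, s⟩, hs⟩ := IsLocalizedModule.surj (Submonoid.powers f) jF x
      have h0 : jS (τ l) = 0 := by
        rw [show jS (τ l) = T (jF l) by simp [T, jF, jS], ← hs, Submonoid.smul_def,
          AlgHom.map_smul_of_tower, hx, smul_zero]
      obtain ⟨⟨_, a, rfl⟩, hc⟩ := (IsLocalizedModule.eq_zero_iff (Submonoid.powers f) jS).mp h0
      obtain ⟨w, rfl⟩ := Ideal.Quotient.mk_surjective l
      obtain ⟨e, he⟩ := hI' (f ^ a • w) (by
        rw [RingHom.mem_ker, map_smul]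
        simpa [τ, Submonoid.smul_def] using hc)
      refine IsLocalizedModule.smul_injective jF s ?_
      show s • x = s • 0
      rw [smul_zero, hs]
      refine (IsLocalizedModule.eq_zero_iff (Submonoid.powers f) jF).mpr
        ⟨⟨f ^ (e + a), e + a, rfl⟩, ?_⟩
      show f ^ (e + a) • Ideal.Quotient.mk I' w = 0
      rw [pow_add, mul_smul, ← Ideal.Quotient.mkₐ_eq_mk R, ← map_smul,
        ← map_smul, Ideal.Quotient.mkₐ_eq_mk, Ideal.Quotient.eq_zero_iff_mem]
      exact he
    · intro y
      induction y with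
      | zero => exact ⟨0, map_zero _⟩
      | tmul a b =>
        obtain ⟨w, rfl⟩ := hσ b
        exact ⟨a ⊗ₜ Ideal.Quotient.mk I' w, by simp [T, τ]⟩
      | add a b ha hb =>
        obtain ⟨c, rfl⟩ := ha
        obtain ⟨d, rfl⟩ := hb
        exact ⟨c + d, map_add _ _ _⟩
  · refine finitePresentation_localized π hπ f hle hfg fun v hv ↦ ?_
    obtain ⟨e, he⟩ := hN' v hv
    obtain ⟨t, rfl⟩ := hd
    exact ⟨e, by rw [mul_pow, mul_comm, mul_smul]; exact N'.smul_of_tower_mem _ he⟩

end GrothLib.GenFree
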