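import Groth.Agent.Lib.GenFree.Basic
import Mathlib.RingTheory.FiniteType
import Mathlib.Algebra.MvPolynomial.Equiv
import Mathlib.Algebra.Polynomial.Module.Basic
import Mathlib.RingTheory.Finiteness.Basic

/-! # Generic freeness over an arbitrary reduced ring -/

universe u

open Submodule

namespace GrothLib.GenFree

/-- Every finite `A`-module is free over `R` on a dense family of basic opens. -/
def GF (R : Type u) [CommRing R] (A : Type u) [CommRing A] [Algebra R A] : Prop :=
  ∀ (M : Type u) [AddCommGroup M] [Module A M] [Module R M] [IsScalarTower R A M]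
    [Module.Finite A M] (g : R), g ≠ 0 → ∃ f, g ∣ f ∧ f ≠ 0 ∧ FreeOn f M

variable {R : Type u} [CommRing R]

theorem GF.of_surjective {A B : Type u} [CommRing A] [CommRing B] [Algebra R A] [Algebra R B]
    (π : A →ₐ[R] B) (hπ : Function.Surjective π) (h : GF R A) : GF R B := by
  intro M _ _ _ _ _ g hg
  letI : Module A M := Module.compHom M π.toRingHom
  haveI : IsScalarTower R A M := ⟨fun r a m ↦ by
    show π (r • a) • m = r • (π a • m)
    rw [map_smul, smul_assoc]⟩
  haveI : RingHomSurjective π.toRingHom := ⟨hπ⟩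
  haveI : Module.Finite A M := by
    obtain ⟨s, hs⟩ := Module.Finite.fg_top (R := B) (M := M)
    refine ⟨⟨s, eq_top_iff.mpr fun m _ ↦ ?_⟩⟩
    have hm : m ∈ span B (s : Set M) := hs ▸ mem_top
    clear * - hm hπ
    induction hm using Submodule.span_induction with
    | mem x hx => exact subset_span hx
    | zero => exact zero_mem _
    | add x y _ _ hx hy => exact add_mem hx hy
    | smul b x _ hx =>
      obtain ⟨a, rfl⟩ := hπ b
      exact smul_mem _ a hx
  exact h M g hg

theorem GF.base [IsReduced R] : GF R R := by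
  intro M _ inst₁ inst₂ hst hfin g hg
  obtain rfl : inst₁ = inst₂ := Module.ext' _ _ fun r m ↦ by
    have := @IsScalarTower.smul_assoc R R M _ inst₁.toSMul inst₂.toSMul hst r 1 m
    rw [smul_eq_mul, mul_one, @one_smul R M _ inst₁.toMulAction] at this
    exact this
  obtain ⟨n, φ, hφ⟩ := Module.Finite.exists_fin' R M
  induction n generalizing g M with
  | zero =>
    haveI : Subsingleton M := ⟨fun a b ↦ by
      obtain ⟨a, rfl⟩ := hφ a
      obtain ⟨b, rfl⟩ := hφ b
      rw [Subsingleton.elim a b]⟩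
    exact ⟨g, dvd_rfl, hg, freeOn_of_subsingleton g⟩
  | succ n ih =>
    by_cases hex : ∀ l, φ l = 0 → g • l = 0
    · exact ⟨g, dvd_rfl, hg, (freeOn_free g).of_map φ
        (fun m ↦ ⟨0, by obtain ⟨l, hl⟩ := hφ m; exact ⟨l, by simpa using hl⟩⟩)
        (fun l hl ↦ ⟨1, by simpa using hex l hl⟩)⟩
    push Not at hex
    obtain ⟨l, hl, hgl⟩ := hex
    obtain ⟨i, hi⟩ : ∃ i, g * l i ≠ 0 := by
      by_contra! h
      exact hgl (funext fun i ↦ by simpa using h i)
    -- after inverting `l i`, the `i`-th generator is redundant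
    classical
    let ψ : (Fin n → R) →ₗ[R] M := φ ∘ₗ
      ((Pi.basisFun R (Fin n)).constr R fun k ↦ Pi.single (i.succAbove k) 1)
    let M' := LinearMap.range ψ
    obtain ⟨f, hdvd, hf, hfr⟩ := ih (M := M') (g := g * l i) hi
      ψ.rangeRestrict ψ.surjective_rangeRestrict
    refine ⟨f, (dvd_mul_right _ _).trans hdvd, hf, hfr.of_map M'.subtype ?_ ?_⟩
    · intro m
      obtain ⟨c, rfl⟩ := hφ m
      obtain ⟨t, ht⟩ := (dvd_mul_left (l i) g).trans hdvd
      refine ⟨1, ⟨f • φ c, ?_⟩, by simp⟩
      refine ⟨fun k ↦ (f • c - (t * c i) • l) (i.succAbove k), ?_⟩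
      rw [show f • φ c = φ (f • c - (t * c i) • l) by simp [hl]]
      have key : ∀ w : Fin (n + 1) → R, w i = 0 → ψ (fun k ↦ w (i.succAbove k)) = φ w := by
        intro w hw
        simp only [ψ, LinearMap.comp_apply, Module.Basis.constr_apply_fintype,
          Pi.basisFun_equivFun, LinearEquiv.refl_apply]
        congr 1
        ext j
        rw [Finset.sum_apply]
        rcases Fin.eq_self_or_eq_succAbove i j with rfl | ⟨k, rfl⟩
        · rw [hw]
          exact Finset.sum_eq_zero fun k _ ↦ by simp [Fin.ne_succAbove _ k]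
        · rw [Finset.sum_eq_single k (fun b _ hb ↦ by
            simp [Pi.single_eq_of_ne (Fin.succAbove_right_injective.ne hb.symm)]) (by simp)]
          simp
      exact key _ (by simp [ht]; ring)
    · intro m hm
      exact ⟨0, by simpa using hm⟩

/-- The inductive step, relative form: a finite `A[X]`-module modulo a finitely generated
`A`-submodule. -/
theorem GF.exists_freeOn_quotient_polynomial [IsReduced R] {A : Type u} [CommRing A] [Algebra R A]
    [Algebra.FiniteType R A] (h : GF R A) (M : Type u) [AddCommGroup M] [Module (Polynomial A) M]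
    [Module A M] [IsScalarTower A (Polynomial A) M] [Module R M] [IsScalarTower R A M]
    [Module.Finite (Polynomial A) M] (L : Submodule A M) (hL : L.FG) (g : R) (hg : g ≠ 0) :
    ∃ f, g ∣ f ∧ f ≠ 0 ∧ FreeOn f (M ⧸ L) := by
  classical
  obtain ⟨s', hs'⟩ := Module.Finite.fg_top (R := Polynomial A) (M := M)
  obtain ⟨t, ht⟩ := hL
  let s := s' ∪ t
  have hs : span (Polynomial A) (s : Set M) = ⊤ :=
    eq_top_iff.mpr (hs' ▸ span_mono (by simp [s]))
  let M₀ : Submodule A M := span A (s : Set M)
  have hLM₀ : L ≤ M₀ := ht ▸ span_mono (by simp [s])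
  haveI : Module.Finite A M₀ := Module.Finite.span_finset A s
  let p : ℕ → M₀ →ₗ[A] M := fun k ↦
    ((DistribSMul.toLinearMap A M ((Polynomial.X : Polynomial A) ^ k))).comp M₀.subtype
  let W : ℕ → Submodule A M := fun k ↦ Nat.rec ⊥ (fun j W ↦ W ⊔ LinearMap.range (p j)) k
  have hW : ∀ k, W (k + 1) = W k ⊔ LinearMap.range (p k) := fun k ↦ rfl
  have hWmono : Monotone W := monotone_nat_of_le_succ fun k ↦ (hW k).symm ▸ le_sup_left
  have hX : ∀ k, ∀ w ∈ W k, (Polynomial.X : Polynomial A) • w ∈ W (k + 1) := by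
    intro k
    induction k with
    | zero =>
      intro w hw
      rw [show W 0 = ⊥ from rfl, Submodule.mem_bot] at hw
      simp [hw]
    | succ k ih =>
      intro w hw
      rw [hW, mem_sup] at hw
      obtain ⟨y, hy, _, ⟨z, rfl⟩, rfl⟩ := hw
      rw [smul_add, hW (k + 1)]
      refine add_mem (mem_sup_left (ih y hy)) (mem_sup_right ⟨z, ?_⟩)
      simp [p, pow_succ', mul_smul]
  have hWall : ∀ m, ∃ k, m ∈ W k := by
    intro m
    have hm : m ∈ span (Polynomial A) (s : Set M) := hs ▸ mem_top
    induction hm using Submodule.span_induction with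
    | mem x hx =>
      exact ⟨1, mem_sup_right ⟨⟨x, subset_span hx⟩, by simp [p]⟩⟩
    | zero => exact ⟨0, zero_mem _⟩
    | add x y _ _ hx hy =>
      obtain ⟨a, ha⟩ := hx
      obtain ⟨b, hb⟩ := hy
      exact ⟨max a b, add_mem (hWmono (le_max_left a b) ha) (hWmono (le_max_right a b) hb)⟩
    | smul P x _ hx =>
      obtain ⟨a, ha⟩ := hx
      induction P using Polynomial.induction_on with
      | C c =>
        refine ⟨a, ?_⟩
        rw [← Polynomial.algebraMap_eq, algebraMap_smul]
        exact (W a).smul_mem c ha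
      | add P Q hP hQ =>
        obtain ⟨b, hb⟩ := hP
        obtain ⟨c, hc⟩ := hQ
        exact ⟨max b c, by
          rw [add_smul]
          exact add_mem (hWmono (le_max_left b c) hb) (hWmono (le_max_right b c) hc)⟩
      | monomial n c hn =>
        obtain ⟨b, hb⟩ := hn
        refine ⟨b + 1, ?_⟩
        rw [show (Polynomial.C c * Polynomial.X ^ (n + 1) : Polynomial A) =
          Polynomial.X * (Polynomial.C c * Polynomial.X ^ n) by ring, mul_smul]
        exact hX b _ hb
  let N : ℕ → Submodule A M₀ := fun k ↦ (W k).comap (p k)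
  have hN : Monotone N := monotone_nat_of_le_succ fun k v hv ↦ by
    show p (k + 1) v ∈ W (k + 1)
    have := hX k _ hv
    simpa [p, pow_succ', mul_smul] using this
  obtain ⟨f₀, hgf₀, hf₀, -, ⟨j, rfl⟩, hfr, hstab⟩ := exists_stable (Set.range N)
    (Set.range_nonempty N)
    (by
      rintro _ ⟨a, rfl⟩ _ ⟨b, rfl⟩
      exact ⟨_, ⟨max a b, rfl⟩, hN (le_max_left a b), hN (le_max_right a b)⟩)
    (fun P _ g hg ↦ h (M₀ ⧸ P) g hg) g hg
  have hlow : ∀ j : ℕ, ∃ f, f₀ ∣ f ∧ f ≠ 0 ∧ ∀ k < j, FreeOn f (M₀ ⧸ N k) := by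
    intro j
    induction j with
    | zero => exact ⟨f₀, dvd_rfl, hf₀, by simp⟩
    | succ j ih =>
      obtain ⟨f, hdvd, hf, hk⟩ := ih
      obtain ⟨f', hdvd', hf', hfr'⟩ := h (M₀ ⧸ N j) f hf
      refine ⟨f', hdvd.trans hdvd', hf', fun k hk' ↦ ?_⟩
      rcases Nat.lt_succ_iff_lt_or_eq.mp hk' with hlt | rfl
      · exact (hk k hlt).mono hdvd'
      · exact hfr'
  obtain ⟨f', hdvd', hf', hlo⟩ := hlow j
  obtain ⟨f, hdvd'', hf, hbot⟩ := h (M₀ ⧸ L.comap (M₀.subtype)) f' hf'
  have hdvd : f₀ ∣ f := hdvd'.trans hdvd''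
  refine ⟨f, hgf₀.trans hdvd, hf, ?_⟩
  have hall : ∀ k, FreeOn f (M₀ ⧸ N k) := by
    intro k
    rcases Nat.lt_or_ge k j with hk | hk
    · exact (hlo k hk).mono hdvd''
    refine (hfr.mono hdvd).of_map
      (((N j).mapQ (N k) LinearMap.id (hN hk)).restrictScalars R) ?_ ?_
    · intro m'
      obtain ⟨v, rfl⟩ := Submodule.Quotient.mk_surjective _ m'
      exact ⟨0, Submodule.Quotient.mk v, by simp⟩
    · intro m hm
      obtain ⟨v, rfl⟩ := Submodule.Quotient.mk_surjective _ m
      have hv : v ∈ N k := by simpa [Submodule.mapQ_apply, Submodule.Quotient.mk_eq_zero] using hm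
      obtain ⟨e, he⟩ := hstab _ ⟨k, rfl⟩ v hv
      obtain ⟨t, rfl⟩ := hdvd
      refine ⟨e, ?_⟩
      rw [← Submodule.Quotient.mk_smul, Submodule.Quotient.mk_eq_zero, mul_pow, mul_comm, mul_smul]
      exact (N j).smul_of_tower_mem _ he
  refine FreeOn.of_chain (fun k ↦ ((W k).map L.mkQ).restrictScalars R) ?_ ?_ ?_
    (fun _ ↦ M₀) (fun k ↦ (L.mkQ ∘ₗ p k).restrictScalars R) ?_ ?_
  · show ((⊥ : Submodule A M).map L.mkQ).restrictScalars R = ⊥
    simp
  · exact fun a b hab ↦ map_mono (hWmono hab)
  · intro m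
    obtain ⟨m, rfl⟩ := Submodule.Quotient.mk_surjective _ m
    obtain ⟨k, hk⟩ := hWall m
    exact ⟨k, mem_map_of_mem hk⟩
  · intro k
    rw [hW, Submodule.map_sup, Submodule.restrictScalars_sup, ← LinearMap.range_comp]
    rfl
  · intro k
    have hcomap : ((W k).map L.mkQ).comap (L.mkQ ∘ₗ p k) =
        (if k = 0 then L.comap M₀.subtype else N k) := by
      rw [comap_comp, comap_map_mkQ]
      rcases k with _ | k
      · show (L ⊔ ⊥).comap (p 0) = _
        rw [sup_bot_eq, if_pos rfl]
        ext v; simp [p]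
      · have hLW : L ≤ W (k + 1) := by
          refine le_trans ?_ (hWmono (Nat.succ_le_succ (Nat.zero_le k)))
          rw [hW 0]
          intro x hx
          exact mem_sup_right ⟨⟨x, hLM₀ hx⟩, by simp [p]⟩
        rw [sup_eq_right.mpr hLW, if_neg (Nat.succ_ne_zero k)]
    have hres : FreeOn f (M₀ ⧸ ((W k).map L.mkQ).comap (L.mkQ ∘ₗ p k)) := by
      rw [hcomap]
      rcases k with _ | k
      · exact hbot
      · exact hall (k + 1)
    exact hres.of_equiv (Submodule.Quotient.restrictScalarsEquiv R _).symm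

/-- The inductive step: adding one variable. -/
theorem GF.polynomial [IsReduced R] {A : Type u} [CommRing A] [Algebra R A]
    [Algebra.FiniteType R A] (h : GF R A) : GF R (Polynomial A) := by
  intro M _ _ _ _ _ g hg
  letI : Module A M := Module.compHom M (algebraMap A (Polynomial A))
  haveI : IsScalarTower A (Polynomial A) M := IsScalarTower.of_algebraMap_smul fun _ _ ↦ rfl
  haveI : IsScalarTower R A M := IsScalarTower.of_algebraMap_smul fun r m ↦ by
    show algebraMap A (Polynomial A) (algebraMap R A r) • m = r • m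
    rw [← IsScalarTower.algebraMap_apply, algebraMap_smul]
  obtain ⟨f, hgf, hf, hfr⟩ :=
    h.exists_freeOn_quotient_polynomial M (⊥ : Submodule A M) fg_bot g hg
  exact ⟨f, hgf, hf, hfr.of_equiv ((Submodule.quotEquivOfEqBot _ rfl).restrictScalars R)⟩

/-- **Generic freeness** over a reduced ring. -/
theorem gf_of_finiteType [IsReduced R] (A : Type u) [CommRing A] [Algebra R A]
    [Algebra.FiniteType R A] : GF R A := by
  have hmv : ∀ n, GF R (MvPolynomial (Fin n) R) := by
    intro n
    induction n with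
    | zero =>
      exact GF.of_surjective (MvPolynomial.isEmptyAlgEquiv R (Fin 0)).symm.toAlgHom
        (AlgEquiv.surjective _) GF.base
    | succ n ih =>
      exact GF.of_surjective (MvPolynomial.finSuccEquiv R n).symm.toAlgHom
        (AlgEquiv.surjective _) (GF.polynomial ih)
  obtain ⟨n, π, hπ⟩ := Algebra.FiniteType.iff_quotient_mvPolynomial''.mp ‹Algebra.FiniteType R A›
  exact (hmv n).of_surjective π hπ

/-- An extension of modules free on `D(f)` is free on `D(f)`. -/
theorem FreeOn.extension {f : R} {M : Type u} [AddCommGroup M] [Module R M] (L : Submodule R M)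
    (hL : FreeOn f L) (hQ : FreeOn f (M ⧸ L)) : FreeOn f M := by
  obtain ⟨ι, φ, h1, h2⟩ := hL
  obtain ⟨κ, ψ, k1, k2⟩ := hQ
  choose b hb using fun i : κ ↦ Submodule.Quotient.mk_surjective L (ψ (Finsupp.single i 1))
  let ψ' : (κ →₀ R) →ₗ[R] M := Finsupp.linearCombination R b
  have hψ : ∀ l, Submodule.Quotient.mk (ψ' l) = ψ l := fun l ↦ by
    have : L.mkQ ∘ₗ ψ' = ψ := Finsupp.lhom_ext fun i r ↦ by
      simp [ψ', Finsupp.linearCombination_single, hb, ← map_smul]
    exact LinearMap.congr_fun this l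
  let Φ : (ι ⊕ κ →₀ R) →ₗ[R] M :=
    ((L.subtype ∘ₗ φ).coprod ψ') ∘ₗ (Finsupp.sumFinsuppLEquivProdFinsupp R).toLinearMap
  refine ⟨ι ⊕ κ, Φ, fun m ↦ ?_, fun l hl ↦ ?_⟩
  · obtain ⟨e, l, hl⟩ := k1 (Submodule.Quotient.mk m)
    have hmem : f ^ e • m - ψ' l ∈ L := by
      rw [← Submodule.Quotient.eq, Submodule.Quotient.mk_smul, hψ, hl]
    obtain ⟨d, l', hl'⟩ := h1 ⟨_, hmem⟩
    refine ⟨d + e, (Finsupp.sumFinsuppLEquivProdFinsupp R).symm (l', f ^ d • l), ?_⟩
    simp [Φ, hl', pow_add, mul_smul, smul_sub]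
  · obtain ⟨⟨l₁, l₂⟩, rfl⟩ := (Finsupp.sumFinsuppLEquivProdFinsupp R).symm.surjective l
    simp only [Φ, LinearMap.comp_apply, LinearEquiv.coe_coe, LinearEquiv.apply_symm_apply,
      LinearMap.coprod_apply, Submodule.subtype_apply] at hl
    obtain ⟨e, he⟩ := k2 l₂ (by
      rw [← hψ, Submodule.Quotient.mk_eq_zero, eq_neg_of_add_eq_zero_right hl]
      exact neg_mem (φ l₁).2)
    have h0 : φ (f ^ e • l₁) = 0 := Subtype.ext (by
      rw [map_smul, Submodule.coe_smul, eq_neg_of_add_eq_zero_left hl, smul_neg, ← map_smul, he,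
        map_zero, neg_zero, ZeroMemClass.coe_zero])
    obtain ⟨d, hd⟩ := h2 _ h0
    refine ⟨d + e, ?_⟩
    rw [← map_smul, Prod.smul_mk, pow_add, mul_smul, hd, mul_smul, he, smul_zero, Prod.mk_zero_zero,
      map_zero]

/-- Generic freeness for a finite module over `A[X₁, …, Xₙ]` modulo a finite `A`-submodule. -/
theorem exists_freeOn_quotient_mvPolynomial [IsReduced R] {A : Type u} [CommRing A] [Algebra R A]
    [Algebra.FiniteType R A] (n : ℕ) (M : Type u) [AddCommGroup M]
    [Module (MvPolynomial (Fin n) A) M] [Module A M] [IsScalarTower A (MvPolynomial (Fin n) A) M]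
    [Module R M] [IsScalarTower R A M] [Module.Finite (MvPolynomial (Fin n) A) M]
    (L : Submodule A M) (hL : L.FG) (g : R) (hg : g ≠ 0) :
    ∃ f, g ∣ f ∧ f ≠ 0 ∧ FreeOn f (M ⧸ L) := by
  classical
  induction n generalizing M g with
  | zero =>
    haveI : Module.Finite A (MvPolynomial (Fin 0) A) :=
      Module.Finite.equiv (MvPolynomial.isEmptyAlgEquiv A (Fin 0)).symm.toLinearEquiv
    haveI : Module.Finite A M := Module.Finite.trans (MvPolynomial (Fin 0) A) M
    exact gf_of_finiteType A (M ⧸ L) g hg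
  | succ n ih =>
    let e := MvPolynomial.finSuccEquiv A n
    let C := MvPolynomial (Fin n) A
    letI : Module (Polynomial C) M := Module.compHom M e.symm.toAlgHom.toRingHom
    letI : Module C M := Module.compHom M
      (e.symm.toAlgHom.toRingHom.comp (algebraMap C (Polynomial C)))
    haveI : IsScalarTower C (Polynomial C) M := IsScalarTower.of_algebraMap_smul fun _ _ ↦ rfl
    haveI : IsScalarTower A C M := IsScalarTower.of_algebraMap_smul fun a m ↦ by
      show e.symm (algebraMap C (Polynomial C) (algebraMap A C a)) • m = a • m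
      rw [← IsScalarTower.algebraMap_apply, AlgEquiv.commutes, algebraMap_smul]
    haveI : IsScalarTower R C M := IsScalarTower.of_algebraMap_smul fun r m ↦ by
      rw [IsScalarTower.algebraMap_apply R A C, algebraMap_smul, algebraMap_smul]
    haveI : Module.Finite (Polynomial C) M := by
      obtain ⟨s, hs⟩ := Module.Finite.fg_top (R := MvPolynomial (Fin (n + 1)) A) (M := M)
      refine ⟨⟨s, eq_top_iff.mpr fun m _ ↦ ?_⟩⟩
      have hm : m ∈ span (MvPolynomial (Fin (n + 1)) A) (s : Set M) := hs ▸ mem_top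
      clear * - hm
      induction hm using Submodule.span_induction with
      | mem x hx => exact subset_span hx
      | zero => exact zero_mem _
      | add x y _ _ hx hy => exact add_mem hx hy
      | smul b x _ hx =>
        have : e b • x = b • x := by
          show e.symm (e b) • x = b • x
          rw [AlgEquiv.symm_apply_apply]
        exact this ▸ smul_mem _ (e b) hx
    obtain ⟨t, rfl⟩ := hL
    let L' : Submodule C M := span C (t : Set M)
    obtain ⟨f₁, hd₁, hf₁, hfr₁⟩ := (gf_of_finiteType (R := R) C).exists_freeOn_quotient_polynomial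
      M L' (fg_span t.finite_toSet) g hg
    haveI : Module.Finite C L' := Module.Finite.span_finset C t
    have hle : span A (t : Set M) ≤ L'.restrictScalars A := span_le_restrictScalars A C _
    obtain ⟨f, hd, hf, hfr⟩ := ih L' (L := (span A (t : Set M)).comap (L'.subtype.restrictScalars A))
      (fg_of_fg_map_injective (L'.subtype.restrictScalars A) L'.injective_subtype (by
        rw [map_comap_eq_self (by
          rw [LinearMap.range_restrictScalars, Submodule.range_subtype]; exact hle)]
        exact fg_span t.finite_toSet)) f₁ hf₁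
    refine ⟨f, hd₁.trans hd, hf, FreeOn.extension
      (((L'.restrictScalars A).map (span A (t : Set M)).mkQ).restrictScalars R) ?_ ?_⟩
    · let π₀ : L' →ₗ[A] ↥((L'.restrictScalars A).map (span A (t : Set M)).mkQ) :=
        { toFun := fun x ↦ ⟨_, mem_map_of_mem x.2⟩
          map_add' := fun _ _ ↦ rfl
          map_smul' := fun _ _ ↦ rfl }
      let π := ((span A (t : Set M)).comap (L'.subtype.restrictScalars A)).liftQ π₀ (fun x hx ↦
        Subtype.ext ((Submodule.Quotient.mk_eq_zero _).mpr hx))
      refine hfr.of_map (π.restrictScalars R) ?_ ?_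
      · rintro ⟨m, x, hx, rfl⟩
        exact ⟨0, Submodule.Quotient.mk ⟨x, hx⟩, by simp; rfl⟩
      · intro m hm
        obtain ⟨x, rfl⟩ := Submodule.Quotient.mk_surjective _ m
        refine ⟨0, ?_⟩
        rw [pow_zero, one_smul, Submodule.Quotient.mk_eq_zero]
        exact (Submodule.Quotient.mk_eq_zero (span A (t : Set M))).mp (congrArg Subtype.val hm)
    · refine (hfr₁.mono hd).of_equiv ?_
      exact ((Submodule.Quotient.restrictScalarsEquiv A L').symm.restrictScalars R) ≪≫ₗ
        ((Submodule.quotientQuotientEquivQuotient (span A (t : Set M)) (L'.restrictScalars A)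
          hle).symm.restrictScalars R) ≪≫ₗ
        (Submodule.Quotient.restrictScalarsEquiv R _).symm

end GrothLib.GenFree
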