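import Groth.Agent.Lib.GenFree.Presentation
import Groth.Agent.Lib.FlatFP.SheafFlat
import Groth.Agent.Lib.FlatModel.Descent
import Groth.Agent.Lib.FittSheaf.Basic

/-! # Generic flatness of sheaves of finite type over an integral base -/

set_option autoImplicit false
set_option linter.style.haveILetI false
universe u

open CategoryTheory AlgebraicGeometry TensorProduct Topology TopologicalSpace

namespace GrothLib.GenFree

/-- A localization inverting `f` is flat over the base as soon as the module is flat after inverting `f`. -/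
theorem flat_localizedModule_of_away {R A M : Type u} [CommRing R] [CommRing A] [Algebra R A]
    [AddCommGroup M] [Module A M] [Module R M] [IsScalarTower R A M] (f : R)
    [Module.Flat R (Localization.Away f ⊗[R] M)] (T : Submonoid A) (hf : algebraMap R A f ∈ T) :
    Module.Flat R (LocalizedModule T M) := by
  rw [Module.Flat.iff_lTensor_preserves_injective_linearMap]
  intro N N' _ _ _ _ g hg
  refine GrothLib.FibreFlat.lTensor_injective_of_isLocalizedModule T (LocalizedModule.mkLinearMap T M) g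
    fun x hx => ?_
  let i : M →ₗ[R] Localization.Away f ⊗[R] M := TensorProduct.mk R _ M 1
  have h1 : LinearMap.rTensor N i x = 0 := by
    apply Module.Flat.lTensor_preserves_injective_linearMap (M := Localization.Away f ⊗[R] M) g hg
    rw [map_zero, ← LinearMap.comp_apply, LinearMap.lTensor_comp_rTensor, ← LinearMap.rTensor_comp_lTensor,
      LinearMap.comp_apply, hx, map_zero]
  let j : M ⊗[R] N →ₗ[R] Localization.Away f ⊗[R] (M ⊗[R] N) := TensorProduct.mk R _ _ 1
  haveI : IsLocalizedModule (Submonoid.powers f) j :=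
    (isLocalizedModule_iff_isBaseChange (Submonoid.powers f) (Localization.Away f) j).mpr
      (TensorProduct.isBaseChange R _ _)
  have h2 : LinearMap.rTensor N i = (TensorProduct.assoc R (Localization.Away f) M N).symm.toLinearMap ∘ₗ j :=
    TensorProduct.ext' fun m n => rfl
  rw [h2, LinearMap.comp_apply] at h1
  have h3 : j x = 0 := (TensorProduct.assoc R (Localization.Away f) M N).symm.injective (h1.trans (map_zero _).symm)
  obtain ⟨⟨c, k, rfl⟩, hc⟩ := (IsLocalizedModule.eq_zero_iff (Submonoid.powers f) j).1 h3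
  refine ⟨algebraMap R A f ^ k, pow_mem hf k, ?_⟩
  rw [← map_pow, algebraMap_smul]
  exact hc

/-- **Generic flatness** for a sheaf of finite type over an integral scheme. -/
theorem exists_isFlatOverAt {X Y : Scheme.{u}} (u : X ⟶ Y) [IsIntegral Y] [LocallyOfFiniteType u] [QuasiCompact u]
    (F : X.Modules) [F.IsQuasicoherent] (hF : CohB1.IsFT F) :
    ∃ U : Y.Opens, (U : Set Y).Nonempty ∧ ∀ x : X, u.base x ∈ U → FlatMod.IsFlatOverAt u F x := by
  classical
  obtain ⟨_, ⟨V, hV, rfl⟩, hyV, -⟩ :=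
    Y.isBasis_affineOpens.exists_subset_of_mem_open (Set.mem_univ (genericPoint Y)) isOpen_univ
  replace hV : IsAffineOpen V := hV
  haveI : Nonempty V := ⟨⟨_, hyV⟩⟩
  obtain ⟨S, hSfin, hS⟩ := isCompact_iff_finite_and_eq_biUnion_affineOpens.1
    (u.isCompact_preimage hV.isCompact : IsCompact ((u ⁻¹ᵁ V : X.Opens) : Set X))
  have hmain : ∀ W : X.affineOpens, W ∈ S → ∃ a : Γ(Y, V), a ≠ 0 ∧
      ∀ x ∈ W.1, u.base x ∈ Y.basicOpen a → FlatMod.IsFlatOverAt u F x := by
    intro W hW
    have e : W.1 ≤ u ⁻¹ᵁ V := hS.ge.trans' (le_biSup (fun i : X.affineOpens => (i : X.Opens)) hW)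
    letI : Algebra Γ(Y, V) Γ(X, W.1) := (u.appLE V W.1 e).hom.toAlgebra
    letI : Module Γ(Y, V) Γ(F, W.1) := Module.compHom _ (u.appLE V W.1 e).hom
    haveI : IsScalarTower Γ(Y, V) Γ(X, W.1) Γ(F, W.1) := IsScalarTower.of_algebraMap_smul fun _ _ => rfl
    haveI : Algebra.FiniteType Γ(Y, V) Γ(X, W.1) :=
      HasRingHomProperty.appLE @LocallyOfFiniteType u ‹_› ⟨V, hV⟩ W e
    haveI := GrothLib.FittSheaf.finite_sections hF W
    obtain ⟨a, -, ha, hfree, -, -, -⟩ :=
      exists_free_and_finitePresentation (R := Γ(Y, V)) Γ(X, W.1) Γ(F, W.1) 1 one_ne_zero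
    refine ⟨a, ha, fun x hx hxa => ?_⟩
    haveI := hfree
    haveI : Module.Flat Γ(Y, V) (Localization.Away a ⊗[Γ(Y, V)] Γ(F, W.1)) :=
      Module.Flat.trans Γ(Y, V) (Localization.Away a) _
    refine (GrothLib.FlatFP.isFlatOverAt_iff u F hV W.2 e hx rfl).2 (flat_localizedModule_of_away a _ ?_)
    have hmem : x ∈ X.basicOpen (u.appLE V W.1 e a) := by
      rw [Scheme.basicOpen_appLE]
      exact ⟨hx, hxa⟩
    exact GrothLib.WeakAss.notMem_primeAt_iff.mpr hmem
  choose a ha hflat using hmain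
  refine ⟨Y.basicOpen (∏ W : hSfin.toFinset, a W.1 (hSfin.mem_toFinset.1 W.2)), ?_, fun x hx => ?_⟩
  · rw [Set.nonempty_iff_ne_empty, Ne, ← TopologicalSpace.Opens.coe_bot,
      SetLike.coe_set_eq, AlgebraicGeometry.basicOpen_eq_bot_iff]
    exact Finset.prod_ne_zero_iff.2 fun W _ => ha _ _
  · have hxV : x ∈ u ⁻¹ᵁ V := Y.basicOpen_le _ hx
    obtain ⟨W, hW, hxW⟩ := (by simpa using hS.le hxV : ∃ W ∈ S, x ∈ (W : X.affineOpens).1)
    refine hflat W hW x hxW ?_
    have hW' : W ∈ hSfin.toFinset := hSfin.mem_toFinset.2 hW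
    rw [← Finset.mul_prod_erase Finset.univ _ (Finset.mem_univ (⟨W, hW'⟩ : hSfin.toFinset)),
      Scheme.basicOpen_mul] at hx
    exact hx.1

end GrothLib.GenFree
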