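import Mathlib.RingTheory.Ideal.MinimalPrime.Localization
import Mathlib.RingTheory.KrullDimension.Zero
import Mathlib.RingTheory.FiniteType
import Mathlib.RingTheory.Localization.AtPrime.Basic
import Mathlib.RingTheory.Polynomial.Basic
import Mathlib.Algebra.Module.LocalizedModule.Submodule
import Mathlib.LinearAlgebra.FreeModule.Basic
import Mathlib.RingTheory.LocalProperties.Reduced
import Mathlib.RingTheory.MvPolynomial.Localization
import Mathlib.RingTheory.Localization.Finiteness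

/-! # Freeness up to powers of an element, and a stabilisation lemma over reduced rings -/

universe u

open Submodule

namespace GrothLib.GenFree

/-- `M` becomes free once `f` is inverted, stated by elements. -/
def FreeOn {R : Type u} [CommRing R] (f : R) (M : Type u) [AddCommGroup M] [Module R M] : Prop :=
  ∃ (ι : Type u) (φ : (ι →₀ R) →ₗ[R] M),
    (∀ m, ∃ (e : ℕ) (l : ι →₀ R), φ l = f ^ e • m) ∧ (∀ l, φ l = 0 → ∃ e : ℕ, f ^ e • l = 0)

variable {R : Type u} [CommRing R] {f : R} {M M' : Type u}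
  [AddCommGroup M] [Module R M] [AddCommGroup M'] [Module R M']

theorem FreeOn.mono (h : FreeOn f M) {f' : R} (hd : f ∣ f') : FreeOn f' M := by
  obtain ⟨ι, φ, h1, h2⟩ := h
  obtain ⟨c, rfl⟩ := hd
  refine ⟨ι, φ, fun m ↦ ?_, fun l hl ↦ ?_⟩
  · obtain ⟨e, l, hl⟩ := h1 m
    exact ⟨e, c ^ e • l, by rw [map_smul, hl, smul_smul, mul_pow, mul_comm]⟩
  · obtain ⟨e, he⟩ := h2 l hl
    exact ⟨e, by rw [mul_pow, mul_comm, mul_smul, he, smul_zero]⟩

theorem FreeOn.of_map (h : FreeOn f M) (π : M →ₗ[R] M') (hs : ∀ m', ∃ (e : ℕ) (m : M), π m = f ^ e • m')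
    (hk : ∀ m, π m = 0 → ∃ e : ℕ, f ^ e • m = 0) : FreeOn f M' := by
  obtain ⟨ι, φ, h1, h2⟩ := h
  refine ⟨ι, π ∘ₗ φ, fun m' ↦ ?_, fun l hl ↦ ?_⟩
  · obtain ⟨e, m, hm⟩ := hs m'
    obtain ⟨d, l, hl⟩ := h1 m
    exact ⟨d + e, l, by rw [LinearMap.comp_apply, hl, map_smul, hm, smul_smul, pow_add]⟩
  · obtain ⟨e, he⟩ := hk (φ l) hl
    obtain ⟨d, hd⟩ := h2 (f ^ e • l) (by rw [map_smul, he])
    exact ⟨d + e, by rw [pow_add, mul_smul, hd]⟩

theorem FreeOn.of_equiv (h : FreeOn f M) (e : M ≃ₗ[R] M') : FreeOn f M' :=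
  h.of_map e.toLinearMap (fun m' ↦ ⟨0, e.symm m', by simp⟩)
    (fun m hm ↦ ⟨0, by simpa using e.map_eq_zero_iff.mp hm⟩)

theorem freeOn_free [Module.Free R M] (f : R) : FreeOn f M :=
  ⟨_, (Module.Free.chooseBasis R M).repr.symm.toLinearMap,
    fun m ↦ ⟨0, (Module.Free.chooseBasis R M).repr m, by simp⟩,
    fun l hl ↦ ⟨0, by simpa using (LinearEquiv.map_eq_zero_iff _).mp hl⟩⟩

theorem freeOn_of_subsingleton [Subsingleton M] (f : R) : FreeOn f M := freeOn_free f

/-- A vector of a module free on `D(f)` which is not `f`-power torsion has a "coordinate". -/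
theorem FreeOn.exists_coord (h : FreeOn f M) {v : M} (hv : ∀ e : ℕ, f ^ e • v ≠ 0) :
    ∃ c : R, f * c ≠ 0 ∧ ∀ q : Ideal R, q.IsPrime → f * c ∉ q → ∀ s ∉ q, s • v ≠ 0 := by
  obtain ⟨ι, φ, h1, h2⟩ := h
  obtain ⟨e, l, hl⟩ := h1 v
  by_contra! H
  have hl0 : f • l = 0 := Finsupp.ext fun i ↦ by
    by_contra hi
    obtain ⟨q, hq, hqc, s, hs, hsv⟩ := H (l i) (by simpa using hi)
    obtain ⟨d, hd⟩ := h2 (s • l) (by rw [map_smul, hl, smul_smul, mul_comm, mul_smul, hsv,
      smul_zero])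
    have : f ^ d * (s * l i) ∈ q := by
      have := DFunLike.congr_fun hd i
      simp only [Finsupp.smul_apply, smul_eq_mul, Finsupp.coe_zero, Pi.zero_apply] at this
      rw [this]; exact q.zero_mem
    rcases hq.mem_or_mem this with h | h
    · exact hqc (q.mul_mem_right _ (hq.mem_of_pow_mem _ h))
    · rcases hq.mem_or_mem h with h | h
      · exact hs h
      · exact hqc (q.mul_mem_left _ h)
  refine hv (e + 1) ?_
  rw [pow_succ', mul_smul, ← hl, ← map_smul, hl0, map_zero]

/-- A module with an exhaustive filtration with pieces free on `D(f)` is free on `D(f)`. -/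
theorem FreeOn.of_chain (W : ℕ → Submodule R M) (h0 : W 0 = ⊥) (hmono : Monotone W)
    (hsup : ∀ m, ∃ k, m ∈ W k) (V : ℕ → Type u) [∀ k, AddCommGroup (V k)] [∀ k, Module R (V k)]
    (p : ∀ k, V k →ₗ[R] M) (hp : ∀ k, W (k + 1) = W k ⊔ LinearMap.range (p k))
    (hfree : ∀ k, FreeOn f (V k ⧸ (W k).comap (p k))) : FreeOn f M := by
  choose ι φ h1 h2 using hfree
  have hpj : ∀ k (i : ι k), ∃ b : M, ∃ v : V k, p k v = b ∧
      Submodule.Quotient.mk v = φ k (Finsupp.single i 1) := fun k i ↦ by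
    obtain ⟨v, hv⟩ := Submodule.Quotient.mk_surjective _ (φ k (Finsupp.single i 1))
    exact ⟨p k v, v, rfl, hv⟩
  choose b v hb hv using hpj
  let Φ : ((Σ k, ι k) →₀ R) →ₗ[R] M := Finsupp.linearCombination R fun x ↦ b x.1 x.2
  have hbW : ∀ k i, b k i ∈ W (k + 1) := fun k i ↦ by
    rw [hp, ← hb]; exact mem_sup_right (LinearMap.mem_range_self _ _)
  -- lifting a coordinate vector of the `k`-th piece
  have hlift : ∀ k (l : ι k →₀ R), ∃ w : V k, p k w = Φ (l.mapDomain (Sigma.mk k)) ∧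
      Submodule.Quotient.mk w = φ k l := fun k l ↦ by
    induction l using Finsupp.induction_linear with
    | zero => exact ⟨0, by simp, by simp⟩
    | add a a' ha ha' =>
      obtain ⟨w, hw, hw'⟩ := ha
      obtain ⟨x, hx, hx'⟩ := ha'
      exact ⟨w + x, by rw [map_add, hw, hx, Finsupp.mapDomain_add, map_add],
        by rw [Submodule.Quotient.mk_add, hw', hx', map_add]⟩
    | single i r =>
      refine ⟨r • v k i, ?_, ?_⟩
      · rw [map_smul, hb, Finsupp.mapDomain_single, Finsupp.linearCombination_single]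
      · rw [Submodule.Quotient.mk_smul, hv, ← map_smul, Finsupp.smul_single_one]
  refine ⟨Σ k, ι k, Φ, fun m ↦ ?_, fun l hl ↦ ?_⟩
  · obtain ⟨k, hk⟩ := hsup m
    induction k generalizing m with
    | zero => rw [h0, Submodule.mem_bot] at hk; exact ⟨0, 0, by simp [hk]⟩
    | succ k ih =>
      rw [hp, mem_sup] at hk
      obtain ⟨y, hy, _, ⟨z, rfl⟩, rfl⟩ := hk
      obtain ⟨e, l, hl⟩ := h1 k (Submodule.Quotient.mk z)
      obtain ⟨w, hw, hw'⟩ := hlift k l
      have hmem : f ^ e • z - w ∈ (W k).comap (p k) := by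
        rw [← Submodule.Quotient.eq, Submodule.Quotient.mk_smul, hw', hl]
      rw [mem_comap, map_sub, map_smul, hw] at hmem
      obtain ⟨d, l', hl'⟩ := ih (f ^ e • y + (f ^ e • p k z - Φ (l.mapDomain (Sigma.mk k))))
        (add_mem (smul_mem _ _ hy) hmem)
      refine ⟨d + e, l' + f ^ d • l.mapDomain (Sigma.mk k), ?_⟩
      rw [map_add, hl', map_smul, pow_add, mul_smul, smul_add, smul_sub, smul_add, smul_add]
      abel
  · have main : ∀ k (l : (Σ k, ι k) →₀ R), (∀ x ∈ l.support, x.1 < k) → Φ l = 0 →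
        ∃ e : ℕ, f ^ e • l = 0 := by
      intro k
      induction k with
      | zero =>
        intro l hs _
        refine ⟨0, ?_⟩
        rw [pow_zero, one_smul]
        exact Finsupp.support_eq_empty.mp (Finset.eq_empty_of_forall_notMem
          fun x hx ↦ Nat.not_lt_zero _ (hs x hx))
      | succ k ih =>
        intro l hs hl
        classical
        let t : ι k →₀ R := l.comapDomain (Sigma.mk k) sigma_mk_injective.injOn
        let rest : (Σ k, ι k) →₀ R := l - t.mapDomain (Sigma.mk k)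
        have hmd : ∀ (a : ι k), t.mapDomain (Sigma.mk k) ⟨k, a⟩ = l ⟨k, a⟩ := fun a ↦ by
          rw [Finsupp.mapDomain_apply sigma_mk_injective, Finsupp.comapDomain_apply]
        have hrs : ∀ x ∈ rest.support, x.1 < k := by
          rintro ⟨j, a⟩ hx
          rw [Finsupp.mem_support_iff] at hx
          by_contra hj
          apply hx
          rcases eq_or_ne j k with rfl | hjk
          · simp [rest, hmd]
          · have h' : t.mapDomain (Sigma.mk k) ⟨j, a⟩ = 0 :=
              Finsupp.mapDomain_notin_range t _ (by rintro ⟨a', ha'⟩; exact hjk (congrArg Sigma.fst ha').symm)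
            have h'' : l ⟨j, a⟩ = 0 := by
              by_contra hne
              have := hs _ (Finsupp.mem_support_iff.mpr hne)
              change j < k + 1 at this
              exact hj (show j < k by omega)
            simp [rest, h', h'']
        have hrW : Φ rest ∈ W k := by
          rw [Finsupp.linearCombination_apply]
          exact Submodule.sum_mem _ fun x hx ↦
            smul_mem _ _ (hmono (hrs x hx) (hbW x.1 x.2))
        obtain ⟨w, hw, hw'⟩ := hlift k t
        have hw0 : p k w ∈ W k := by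
          have : Φ rest + p k w = 0 := by rw [hw, ← map_add]; simpa [rest] using hl
          rw [eq_neg_of_add_eq_zero_right this]
          exact neg_mem hrW
        obtain ⟨e, he⟩ := h2 k t (by
          rw [← hw', Submodule.Quotient.mk_eq_zero]; exact hw0)
        have hfl : f ^ e • l = f ^ e • rest := by
          simp only [rest, smul_sub]
          rw [← Finsupp.mapDomain_smul, he, Finsupp.mapDomain_zero, sub_zero]
        obtain ⟨d, hd⟩ := ih (f ^ e • rest)
          (fun x hx ↦ hrs x (Finsupp.support_smul hx)) (by rw [← hfl, map_smul, hl, smul_zero])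
        exact ⟨d + e, by rw [pow_add, mul_smul, hfl, hd]⟩
    exact main (l.support.sup Sigma.fst + 1) l
      (fun x hx ↦ Nat.lt_succ_of_le (Finset.le_sup (f := Sigma.fst) hx)) hl

/-- An increasing chain of submodules of a finite module over a finite type algebra becomes
stationary at any minimal prime of a reduced base. -/
theorem exists_stable_at_minimalPrime [IsReduced R] {A : Type u} [CommRing A] [Algebra R A]
    [Algebra.FiniteType R A] {V : Type u} [AddCommGroup V] [Module A V] [Module R V]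
    [IsScalarTower R A V] [Module.Finite A V] (q : Ideal R) (hq : q ∈ minimalPrimes R)
    (N : ℕ → Submodule A V) (hN : Monotone N) :
    ∃ j, ∀ v ∈ N (j + 1), ∃ s ∉ q, s • v ∈ N j := by
  obtain ⟨n, π, hπ⟩ := Algebra.FiniteType.iff_quotient_mvPolynomial''.mp ‹Algebra.FiniteType R A›
  let P := MvPolynomial (Fin n) R
  letI : Algebra P A := π.toRingHom.toAlgebra
  letI : Module P V := Module.compHom V π.toRingHom
  haveI : IsScalarTower P A V := ⟨fun x a v ↦ (mul_smul (π x) a v).trans rfl⟩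
  haveI : Module.Finite P A := Module.Finite.of_surjective (Algebra.linearMap P A) hπ
  haveI : Module.Finite P V := Module.Finite.trans A V
  have := hq.1.1
  have : Ring.KrullDimLE 0 (Localization.AtPrime q) := .of_isLocalization _ hq _
  let : Field (Localization.AtPrime q) := Ring.KrullDimLE.isField_of_isReduced.toField
  let S : Submonoid P := q.primeCompl.map MvPolynomial.C
  letI : Algebra P (MvPolynomial (Fin n) (Localization.AtPrime q)) :=
    MvPolynomial.algebraMvPolynomial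
  haveI : IsLocalization S (MvPolynomial (Fin n) (Localization.AtPrime q)) :=
    MvPolynomial.isLocalization q.primeCompl _
  haveI : IsNoetherianRing (Localization S) :=
    isNoetherianRing_of_ringEquiv _
      (IsLocalization.algEquiv S (MvPolynomial (Fin n) (Localization.AtPrime q))
        (Localization S)).toRingEquiv
  let ℓ := LocalizedModule.mkLinearMap S V
  haveI : Module.Finite (Localization S) (LocalizedModule S V) :=
    Module.Finite.of_isLocalizedModule S ℓ
  let F : ℕ →o Submodule (Localization S) (LocalizedModule S V) :=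
    ⟨fun j ↦ localized' (Localization S) S ℓ ((N j).restrictScalars P), fun a b hab ↦ by
      simp only [localized'_eq_span]
      exact span_mono (Set.image_mono fun x hx ↦ hN hab hx)⟩
  obtain ⟨j, hj⟩ := monotone_stabilizes_iff_noetherian.mpr
    (inferInstance : IsNoetherian (Localization S) (LocalizedModule S V)) F
  refine ⟨j, fun v hv ↦ ?_⟩
  have hmem : ℓ v ∈ F j := by
    rw [hj (j + 1) (Nat.le_succ _)]
    exact ⟨v, hv, 1, by simp⟩
  obtain ⟨w, hw, s, hs⟩ := hmem
  rw [IsLocalizedModule.mk'_eq_iff, Submonoid.smul_def, ← map_smul] at hs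
  obtain ⟨c, hc⟩ := (IsLocalizedModule.eq_iff_exists S ℓ).mp hs
  obtain ⟨s₀, hs₀, hs₀'⟩ := s.2
  obtain ⟨c₀, hc₀, hc₀'⟩ := c.2
  refine ⟨c₀ * s₀, q.primeCompl.mul_mem hc₀ hs₀, ?_⟩
  have key : ∀ (r : R) (x : V), (MvPolynomial.C r : P) • x = r • x := fun r x ↦ by
    show π (MvPolynomial.C r) • x = r • x
    rw [show π (MvPolynomial.C r) = algebraMap R A r from π.commutes r, algebraMap_smul]
  rw [Submonoid.smul_def, Submonoid.smul_def, ← hs₀', ← hc₀', key, key, key] at hc
  rw [mul_smul, ← hc]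
  exact (N j).smul_of_tower_mem _ hw

/-- If each submodule in a directed family has quotient free on dense opens, then on some nonempty
open inside `D(g)` one member of the family contains all the others. -/
theorem exists_stable [IsReduced R] {A : Type u} [CommRing A] [Algebra R A]
    [Algebra.FiniteType R A] {V : Type u} [AddCommGroup V] [Module A V] [Module R V]
    [IsScalarTower R A V] [Module.Finite A V] (𝒩 : Set (Submodule A V)) (hne : 𝒩.Nonempty)
    (hdir : DirectedOn (· ≤ ·) 𝒩)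
    (hfree : ∀ N ∈ 𝒩, ∀ g : R, g ≠ 0 → ∃ f, g ∣ f ∧ f ≠ 0 ∧ FreeOn f (V ⧸ N))
    (g : R) (hg : g ≠ 0) :
    ∃ f, g ∣ f ∧ f ≠ 0 ∧ ∃ N ∈ 𝒩, FreeOn f (V ⧸ N) ∧
      ∀ N' ∈ 𝒩, ∀ v ∈ N', ∃ e : ℕ, f ^ e • v ∈ N := by
  by_contra! H
  let T := {p : R × Submodule A V // g ∣ p.1 ∧ p.1 ≠ 0 ∧ p.2 ∈ 𝒩 ∧ FreeOn p.1 (V ⧸ p.2)}
  have hstep : ∀ t : T, ∃ t' : T, t.1.1 ∣ t'.1.1 ∧ t.1.2 ≤ t'.1.2 ∧
      ∃ v ∈ t'.1.2, ∀ q : Ideal R, q.IsPrime → t'.1.1 ∉ q → ∀ s ∉ q, s • v ∉ t.1.2 := by
    rintro ⟨⟨f, N⟩, hgf, hf, hN, hfr⟩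
    obtain ⟨N', hN', v, hv, hve⟩ := H f hgf hf N hN hfr
    obtain ⟨c, hc, hcq⟩ := hfr.exists_coord (v := Submodule.Quotient.mk v) (fun e ↦ by
      rw [← Submodule.Quotient.mk_smul, Ne, Submodule.Quotient.mk_eq_zero]; exact hve e)
    obtain ⟨N₂, hN₂, hle, hle'⟩ := hdir N hN N' hN'
    obtain ⟨f₂, hdvd, hf₂, hfr₂⟩ := hfree N₂ hN₂ (f * c) hc
    refine ⟨⟨(f₂, N₂), (hgf.mul_right c).trans hdvd, hf₂, hN₂, hfr₂⟩,
      (dvd_mul_right f c).trans hdvd, hle, v, hle' hv, fun q hq hqf s hs hsv ↦ ?_⟩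
    refine hcq q hq (fun hmem ↦ hqf (q.mem_of_dvd hdvd hmem)) s hs ?_
    rw [← Submodule.Quotient.mk_smul, Submodule.Quotient.mk_eq_zero]
    exact hsv
  choose next hdvd hle v hv hvq using hstep
  obtain ⟨N₀, hN₀⟩ := hne
  obtain ⟨f₀, hgf₀, hf₀, hfr₀⟩ := hfree N₀ hN₀ g hg
  let seq : ℕ → T := fun k ↦ next^[k] ⟨(f₀, N₀), hgf₀, hf₀, hN₀, hfr₀⟩
  have hseq : ∀ k, seq (k + 1) = next (seq k) := fun k ↦ Function.iterate_succ_apply' _ _ _
  let f : ℕ → R := fun k ↦ (seq k).1.1
  have hfd : ∀ i j, i ≤ j → f i ∣ f j := fun i j hij ↦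
    Nat.le_induction dvd_rfl (fun k _ ih ↦ ih.trans (by simpa [f, hseq] using hdvd (seq k))) j hij
  let S : Submonoid R := Submonoid.closure (Set.range f)
  have hS : ∀ x ∈ S, ∃ k e : ℕ, x ∣ f k ^ e := by
    intro x hx
    induction hx using Submonoid.closure_induction with
    | mem x hx =>
      obtain ⟨k, rfl⟩ := hx
      exact ⟨k, 1, by simp⟩
    | one => exact ⟨0, 0, by simp⟩
    | mul x y _ _ hx hy =>
      obtain ⟨k, e, hke⟩ := hx
      obtain ⟨k', e', hke'⟩ := hy
      refine ⟨max k k', e + e', ?_⟩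
      rw [pow_add]
      exact mul_dvd_mul (hke.trans (pow_dvd_pow_of_dvd (hfd _ _ (le_max_left _ _)) e))
        (hke'.trans (pow_dvd_pow_of_dvd (hfd _ _ (le_max_right _ _)) e'))
  have hdisj : Disjoint ((⊥ : Ideal R) : Set R) (S : Set R) := by
    rw [Set.disjoint_left]
    rintro x hx hxS
    rw [SetLike.mem_coe, Submodule.mem_bot] at hx
    obtain ⟨k, e, hd⟩ := hS x hxS
    rw [hx, zero_dvd_iff] at hd
    exact (seq k).2.2.1 (IsReduced.eq_zero _ ⟨e, hd⟩)
  obtain ⟨q', hq', -, hdq⟩ := Ideal.exists_le_prime_disjoint _ _ hdisj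
  obtain ⟨q, hq, hqle⟩ := Ideal.exists_minimalPrimes_le (bot_le (a := q'))
  have := hq.1.1
  obtain ⟨j, hj⟩ := exists_stable_at_minimalPrime q hq (fun k ↦ (seq k).1.2)
    (monotone_nat_of_le_succ fun k ↦ by simpa [hseq] using hle (seq k))
  obtain ⟨s, hs, hsv⟩ := hj (v (seq j)) (by simpa [hseq] using hv (seq j))
  refine hvq (seq j) q hq.1.1 ?_ s hs hsv
  intro hmem
  refine Set.disjoint_left.mp hdq (hqle hmem) (Submonoid.subset_closure ⟨j + 1, ?_⟩)
  simp [f, hseq]

end GrothLib.GenFree
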